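import Cfsg.Agent.H141.Rg.Defs
import Mathlib.GroupTheory.Perm.DomMulAct
import Mathlib.GroupTheory.GroupAction.Primitive

/-!
# Pairs of permutations generating an intransitive or an imprimitive group are rare
(task [A3] of S5714)
-/

set_option autoImplicit false

namespace Cfsg.Agent.H451.Rg

open Equiv Nat
open scoped Pointwise

/-- pairs lying in a conjugate of `H` -/
theorem conj_pairs {G : Type*} [Group G] [Finite G] (H : Subgroup G) :
    Nat.card {xy : G × G // ∃ g : G, g * xy.1 * g⁻¹ ∈ H ∧ g * xy.2 * g⁻¹ ∈ H} ≤ Nat.card G * Nat.card H := by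
  classical
  have hpos : 0 < Nat.card H := Nat.card_pos
  refine Nat.le_of_mul_le_mul_right ?_ hpos
  rw [mul_assoc, ← Nat.card_prod, ← Nat.card_prod, ← Nat.card_prod]
  let F : {xy : G × G // ∃ g : G, g * xy.1 * g⁻¹ ∈ H ∧ g * xy.2 * g⁻¹ ∈ H} × H → G × (H × H) := fun u =>
    (u.2.1 * u.1.2.choose, ⟨u.2.1 * (u.1.2.choose * u.1.1.1 * u.1.2.choose⁻¹) * u.2.1⁻¹,
        H.mul_mem (H.mul_mem u.2.2 u.1.2.choose_spec.1) (H.inv_mem u.2.2)⟩,
      ⟨u.2.1 * (u.1.2.choose * u.1.1.2 * u.1.2.choose⁻¹) * u.2.1⁻¹,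
        H.mul_mem (H.mul_mem u.2.2 u.1.2.choose_spec.2) (H.inv_mem u.2.2)⟩)
  refine Nat.card_le_card_of_injective F ?_
  rintro ⟨⟨⟨x, y⟩, h⟩, k⟩ ⟨⟨⟨x', y'⟩, h'⟩, k'⟩ e
  simp only [F, Prod.mk.injEq, Subtype.mk.injEq] at e
  obtain ⟨e1, e2, e3⟩ := e
  have hx : x = x' := by
    have a1 : (k.1 * h.choose) * x * (k.1 * h.choose)⁻¹ = (k'.1 * h'.choose) * x' * (k'.1 * h'.choose)⁻¹ := by
      simpa [mul_assoc] using e2
    rw [e1] at a1
    exact mul_left_cancel (mul_right_cancel a1)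
  have hy : y = y' := by
    have a1 : (k.1 * h.choose) * y * (k.1 * h.choose)⁻¹ = (k'.1 * h'.choose) * y' * (k'.1 * h'.choose)⁻¹ := by
      simpa [mul_assoc] using e3
    rw [e1] at a1
    exact mul_left_cancel (mul_right_cancel a1)
  subst hx hy
  have hk : k = k' := Subtype.ext (mul_right_cancel e1)
  subst hk
  rfl

theorem ais {α : Type*} (a : Perm α) (i : α) : a (a⁻¹ i) = i := by simp

/-- the stabiliser of the first `k` points -/
def HS (n k : ℕ) : Subgroup (Perm (Fin n)) where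
  carrier := {x | ∀ i, ((x i).1 < k ↔ i.1 < k)}
  one_mem' := fun i => Iff.rfl
  mul_mem' {a b} ha hb := fun i => (ha (b i)).trans (hb i)
  inv_mem' {a} ha := fun i => by
    have := ha (a⁻¹ i)
    rw [ais] at this
    exact this.symm

theorem card_lt {n k : ℕ} (hk : k ≤ n) : Fintype.card {i : Fin n // i.1 < k} = k := by
  have e : {i : Fin n // i.1 < k} ≃ Fin k :=
    ⟨fun i => ⟨i.1.1, i.2⟩, fun j => ⟨⟨j.1, j.2.trans_le hk⟩, j.2⟩, fun i => rfl, fun j => rfl⟩
  rw [Fintype.card_congr e, Fintype.card_fin]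

theorem card_HS {n k : ℕ} (hk : k ≤ n) : Nat.card (HS n k) = k ! * (n - k)! := by
  classical
  have h1 : Nat.card (HS n k) = Fintype.card {g : Perm (Fin n) //
      (fun i : Fin n => decide (i.1 < k)) ∘ g = (fun i : Fin n => decide (i.1 < k))} := by
    rw [← Nat.card_eq_fintype_card]
    refine Nat.card_congr (Equiv.subtypeEquivRight fun g => ?_)
    constructor
    · intro h
      funext i
      exact decide_eq_decide.mpr (h i)
    · intro h i
      exact decide_eq_decide.mp (congrFun h i)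
  rw [h1, DomMulAct.stabilizer_card, Fintype.prod_bool]
  have e1 : Fintype.card {a : Fin n // decide (a.1 < k) = true} = k := by
    have h2 : Fintype.card {a : Fin n // decide (a.1 < k) = true} = Fintype.card {a : Fin n // a.1 < k} :=
      Fintype.card_congr (Equiv.subtypeEquivRight fun i => by simp)
    rw [h2, card_lt hk]
  have e2 : Fintype.card {a : Fin n // decide (a.1 < k) = false} = n - k := by
    have : Fintype.card {a : Fin n // decide (a.1 < k) = false} = Fintype.card {a : Fin n // ¬ a.1 < k} :=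
      Fintype.card_congr (Equiv.subtypeEquivRight fun i => by simp)
    rw [this, Fintype.card_subtype_compl, card_lt hk, Fintype.card_fin]
  rw [e1, e2]

/-- a set of size `k` invariant under two permutations -/
theorem mem_HS_of {n k : ℕ} (S : Finset (Fin n)) (hS : S.card = k) {x y : Perm (Fin n)}
    (hx : ∀ i, x i ∈ S ↔ i ∈ S) (hy : ∀ i, y i ∈ S ↔ i ∈ S) :
    ∃ g : Perm (Fin n), g * x * g⁻¹ ∈ HS n k ∧ g * y * g⁻¹ ∈ HS n k := by
  classical
  have hk : k ≤ n := by rw [← hS]; simpa using S.card_le_univ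
  have hc : Fintype.card {i // i ∈ S} = Fintype.card {i : Fin n // i.1 < k} := by
    rw [card_lt hk, Fintype.card_coe, hS]
  let e := Fintype.equivOfCardEq hc
  let g : Perm (Fin n) := e.extendSubtype
  have hg : ∀ i, ((g i).1 < k ↔ i ∈ S) := by
    intro i
    constructor
    · intro h
      by_contra hi
      exact e.extendSubtype_not_mem i hi h
    · intro h
      exact e.extendSubtype_mem i h
  have key : ∀ x : Perm (Fin n), (∀ i, x i ∈ S ↔ i ∈ S) → g * x * g⁻¹ ∈ HS n k := by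
    intro x hx i
    show ((g (x (g⁻¹ i))).1 < k ↔ i.1 < k)
    rw [hg, hx, ← hg, ais]
  exact ⟨g, key x hx, key y hy⟩

theorem not_trans_set {n : ℕ} {x y : Perm (Fin n)}
    (h : ¬ MulAction.IsPretransitive (Subgroup.closure {x, y}) (Fin n)) :
    ∃ S : Finset (Fin n), 1 ≤ S.card ∧ S.card ≤ n / 2 ∧ (∀ i, x i ∈ S ↔ i ∈ S) ∧ (∀ i, y i ∈ S ↔ i ∈ S) := by
  classical
  set G := Subgroup.closure {x, y} with hG
  have h1 : ∃ a b : Fin n, ∀ g : G, g • a ≠ b := by
    by_contra hc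
    push Not at hc
    exact h ⟨hc⟩
  obtain ⟨a, b, hab⟩ := h1
  let O : Finset (Fin n) := Finset.univ.filter fun i => i ∈ MulAction.orbit G a
  have hO : ∀ z : Perm (Fin n), z ∈ G → ∀ i, z i ∈ O ↔ i ∈ O := by
    intro z hz i
    simp only [O, Finset.mem_filter, Finset.mem_univ, true_and]
    have : z i = (⟨z, hz⟩ : G) • i := rfl
    rw [this, ← MulAction.orbit_eq_iff, ← MulAction.orbit_eq_iff, MulAction.orbit_smul]
  have hx : x ∈ G := Subgroup.subset_closure (by simp)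
  have hy : y ∈ G := Subgroup.subset_closure (by simp)
  have ha : a ∈ O := by simp [O]
  have hb : b ∉ O := by
    simp only [O, Finset.mem_filter, Finset.mem_univ, true_and, MulAction.mem_orbit_iff, not_exists]
    exact hab
  have hcO : Oᶜ.card = n - O.card := by rw [Finset.card_compl, Fintype.card_fin]
  have hOn : O.card ≤ n := by simpa using O.card_le_univ
  by_cases hle : O.card ≤ n / 2
  · exact ⟨O, Finset.card_pos.mpr ⟨a, ha⟩, hle, hO x hx, hO y hy⟩
  · refine ⟨Oᶜ, Finset.card_pos.mpr ⟨b, by simpa using hb⟩, by omega, fun i => ?_, fun i => ?_⟩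
    · rw [Finset.mem_compl, Finset.mem_compl, hO x hx]
    · rw [Finset.mem_compl, Finset.mem_compl, hO y hy]

theorem card_le_sum {ι α : Type*} [Finite α] (s : Finset ι) (P : α → Prop) (Q : ι → α → Prop)
    (h : ∀ a, P a → ∃ i ∈ s, Q i a) : Nat.card {a // P a} ≤ ∑ i ∈ s, Nat.card {a // Q i a} := by
  classical
  have := Fintype.ofFinite α
  simp only [Nat.card_eq_fintype_card, Fintype.card_subtype]
  refine (Finset.card_le_card (t := s.biUnion fun i => Finset.univ.filter fun a => Q i a) ?_).trans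
    Finset.card_biUnion_le
  intro a ha
  simp only [Finset.mem_filter, Finset.mem_univ, true_and] at ha
  obtain ⟨i, hi, hq⟩ := h a ha
  simp only [Finset.mem_biUnion, Finset.mem_filter, Finset.mem_univ, true_and]
  exact ⟨i, hi, hq⟩

theorem choose_two_le {n k : ℕ} (h2 : 2 ≤ k) (hk : k ≤ n / 2) : n.choose 2 ≤ n.choose k := by
  induction k, h2 using Nat.le_induction with
  | base => exact le_rfl
  | succ m hm ih =>
    exact (ih (by omega)).trans (Nat.choose_le_succ_of_lt_half_left (by omega))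

theorem not_trans_nat (n : ℕ) :
    Nat.card {xy : Perm (Fin n) × Perm (Fin n) //
      ¬ MulAction.IsPretransitive (Subgroup.closure {xy.1, xy.2}) (Fin n)} ≤
      ∑ k ∈ Finset.Icc 1 (n / 2), n ! * (k ! * (n - k)!) := by
  refine (card_le_sum (Finset.Icc 1 (n / 2)) _
    (fun k (xy : Perm (Fin n) × Perm (Fin n)) => ∃ g : Perm (Fin n), g * xy.1 * g⁻¹ ∈ HS n k ∧ g * xy.2 * g⁻¹ ∈ HS n k)
    ?_).trans ?_
  · intro xy h
    obtain ⟨S, h1, h2, h3, h4⟩ := not_trans_set h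
    exact ⟨S.card, Finset.mem_Icc.mpr ⟨h1, h2⟩, mem_HS_of S rfl h3 h4⟩
  · refine Finset.sum_le_sum fun k hk => ?_
    have hk' := Finset.mem_Icc.mp hk
    refine (conj_pairs (HS n k)).trans ?_
    rw [card_HS (by omega), Nat.card_perm, Nat.card_eq_fintype_card, Fintype.card_fin]

theorem not_trans : ∀ ε : ℝ, 0 < ε → ∃ N : ℕ, ∀ n : ℕ, N ≤ n →
    (Nat.card {xy : Equiv.Perm (Fin n) × Equiv.Perm (Fin n) //
      ¬ MulAction.IsPretransitive (Subgroup.closure {xy.1, xy.2}) (Fin n)} : ℝ) ≤ ε * (n.factorial : ℝ) ^ 2 := by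
  intro ε hε
  obtain ⟨N, hN⟩ := exists_nat_gt (3 / ε)
  refine ⟨N + 2, fun n hn => ?_⟩
  have hn2 : 2 ≤ n := by omega
  have hnR : (2 : ℝ) ≤ n := by exact_mod_cast hn2
  have hf : (0 : ℝ) < (n.factorial : ℝ) := by exact_mod_cast n.factorial_pos
  have hn1 : (0 : ℝ) < (n : ℝ) - 1 := by linarith
  have hterm : ∀ k ∈ Finset.Icc 1 (n / 2), ((n ! * (k ! * (n - k)!) : ℕ) : ℝ) ≤
      (n ! : ℝ) ^ 2 * (if k = 1 then 1 / ((n : ℝ) - 1) else 2 / (n * ((n : ℝ) - 1))) := by
    intro k hk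
    obtain ⟨hk1, hk2⟩ := Finset.mem_Icc.mp hk
    have hkn : k ≤ n := by omega
    have hc : n.choose k * k ! * (n - k)! = n ! := Nat.choose_mul_factorial_mul_factorial hkn
    have hcR : (n.choose k : ℝ) * ((k ! : ℝ) * ((n - k)! : ℝ)) = (n ! : ℝ) := by
      rw [← mul_assoc]; exact_mod_cast hc
    have hcpos : (0 : ℝ) < (n.choose k : ℝ) := by exact_mod_cast Nat.choose_pos hkn
    have e1 : ((k ! : ℝ) * ((n - k)! : ℝ)) = (n ! : ℝ) * (1 / (n.choose k : ℝ)) := by
      rw [← hcR]; field_simp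
    push_cast
    rw [e1, ← mul_assoc, ← pow_two]
    refine mul_le_mul_of_nonneg_left ?_ (by positivity)
    split_ifs with hk0
    · subst hk0
      rw [Nat.choose_one_right]
      exact one_div_le_one_div_of_le hn1 (by linarith)
    · have h2 : n.choose 2 ≤ n.choose k := choose_two_le (by omega) hk2
      have h3 : ((n.choose 2 : ℕ) : ℝ) = n * ((n : ℝ) - 1) / 2 := Nat.cast_choose_two ℝ n
      have h4 : (n : ℝ) * ((n : ℝ) - 1) / 2 ≤ (n.choose k : ℝ) := by rw [← h3]; exact_mod_cast h2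
      have h5 : 2 / ((n : ℝ) * ((n : ℝ) - 1)) = 1 / (n * ((n : ℝ) - 1) / 2) := by field_simp
      rw [h5]
      exact one_div_le_one_div_of_le (by positivity) h4
  have hsum : ((∑ k ∈ Finset.Icc 1 (n / 2), n ! * (k ! * (n - k)!) : ℕ) : ℝ) ≤
      (n ! : ℝ) ^ 2 * (3 / ((n : ℝ) - 1)) := by
    rw [Nat.cast_sum]
    refine (Finset.sum_le_sum hterm).trans ?_
    rw [← Finset.mul_sum]
    refine mul_le_mul_of_nonneg_left ?_ (by positivity)
    have hle : ∀ k ∈ Finset.Icc 1 (n / 2),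
        (if k = 1 then 1 / ((n : ℝ) - 1) else 2 / (n * ((n : ℝ) - 1))) ≤
          (if k = 1 then 1 / ((n : ℝ) - 1) else 0) + 2 / (n * ((n : ℝ) - 1)) := by
      intro k _
      split_ifs
      · have : (0 : ℝ) ≤ 2 / (n * ((n : ℝ) - 1)) := by positivity
        linarith
      · linarith
    refine (Finset.sum_le_sum hle).trans ?_
    rw [Finset.sum_add_distrib, Finset.sum_ite_eq' (Finset.Icc 1 (n / 2)) 1 fun _ => 1 / ((n : ℝ) - 1),
      if_pos (Finset.mem_Icc.mpr ⟨le_rfl, by omega⟩), Finset.sum_const, Nat.card_Icc, nsmul_eq_mul]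
    have hcard : ((n / 2 + 1 - 1 : ℕ) : ℝ) ≤ n := by
      have : n / 2 + 1 - 1 ≤ n := by omega
      exact_mod_cast this
    have : ((n / 2 + 1 - 1 : ℕ) : ℝ) * (2 / (n * ((n : ℝ) - 1))) ≤ n * (2 / (n * ((n : ℝ) - 1))) :=
      mul_le_mul_of_nonneg_right hcard (by positivity)
    have e : (n : ℝ) * (2 / (n * ((n : ℝ) - 1))) = 2 / ((n : ℝ) - 1) := by
      field_simp
    rw [e] at this
    have e2 : (3 : ℝ) / ((n : ℝ) - 1) = 1 / ((n : ℝ) - 1) + 2 / ((n : ℝ) - 1) := by ring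
    rw [e2]
    linarith
  refine (Nat.cast_le.mpr (not_trans_nat n)).trans (hsum.trans ?_)
  rw [mul_comm]
  refine mul_le_mul_of_nonneg_right ?_ (by positivity)
  rw [div_le_iff₀ hn1]
  have h6 : (3 : ℝ) / ε < n - 1 := by
    have : (N : ℝ) + 2 ≤ n := by exact_mod_cast hn
    linarith
  rw [div_lt_iff₀ hε] at h6
  linarith

/-! ### imprimitive groups -/

/-- the stabiliser of the partition given by `c` -/
def HP {n b : ℕ} (c : Fin n → Fin b) : Subgroup (Perm (Fin n)) where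
  carrier := {x | ∃ σ : Perm (Fin b), ∀ i, c (x i) = σ (c i)}
  one_mem' := ⟨1, fun _ => rfl⟩
  mul_mem' := by
    rintro x y ⟨s, hs⟩ ⟨t, ht⟩
    exact ⟨s * t, fun i => by rw [Perm.mul_apply, hs, ht, Perm.mul_apply]⟩
  inv_mem' := by
    rintro x ⟨s, hs⟩
    refine ⟨s⁻¹, fun i => ?_⟩
    have := hs (x⁻¹ i)
    rw [ais] at this
    rw [this]
    simp

theorem mem_HP {n b : ℕ} {c : Fin n → Fin b} {x : Perm (Fin n)} :
    x ∈ HP c ↔ ∃ σ : Perm (Fin b), ∀ i, c (x i) = σ (c i) := Iff.rfl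

theorem mem_HP_of {n b : ℕ} {c : Fin n → Fin b} (hs : Function.Surjective c) {x : Perm (Fin n)}
    (h : ∀ i j, c i = c j ↔ c (x i) = c (x j)) : x ∈ HP c := by
  choose r hr using hs
  have hinj : Function.Injective fun j => c (x (r j)) := by
    intro j k hjk
    have := (h (r j) (r k)).mpr hjk
    rwa [hr, hr] at this
  refine ⟨Equiv.ofBijective _ (Finite.injective_iff_bijective.mp hinj), fun i => ?_⟩
  show c (x i) = c (x (r (c i)))
  exact (h i (r (c i))).mp (hr (c i)).symm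

theorem card_HP {n b a : ℕ} (c : Fin n → Fin b) (hc : ∀ j, Fintype.card {i // c i = j} = a) :
    Nat.card (HP c) ≤ b ! * (a !) ^ b := by
  classical
  refine (card_le_sum Finset.univ (fun x : Perm (Fin n) => x ∈ HP c)
    (fun (σ : Perm (Fin b)) (x : Perm (Fin n)) => ∀ i, c (x i) = σ (c i))
    (fun x hx => by obtain ⟨σ, h⟩ := hx; exact ⟨σ, Finset.mem_univ _, h⟩)).trans ?_
  have hle : ∀ σ ∈ (Finset.univ : Finset (Perm (Fin b))),
      Nat.card {x : Perm (Fin n) // ∀ i, c (x i) = σ (c i)} ≤ (a !) ^ b := by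
    intro σ _
    rcases isEmpty_or_nonempty {x : Perm (Fin n) // ∀ i, c (x i) = σ (c i)} with he | ⟨⟨x0, h0⟩⟩
    · simp
    · have h1 : Nat.card {g : Perm (Fin n) // c ∘ g = c} = (a !) ^ b := by
        rw [Nat.card_eq_fintype_card, DomMulAct.stabilizer_card]
        rw [Finset.prod_congr rfl fun j _ => by rw [hc j], Finset.prod_const, Finset.card_univ,
          Fintype.card_fin]
      rw [← h1]
      refine Nat.card_le_card_of_injective (fun x => ⟨x0⁻¹ * x.1, ?_⟩) ?_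
      · funext i
        have h2 := h0 (x0⁻¹ (x.1 i))
        rw [ais, x.2 i] at h2
        exact (σ.injective h2).symm
      · intro x y hxy
        exact Subtype.ext (mul_left_cancel (Subtype.mk.inj hxy))
  refine (Finset.sum_le_sum hle).trans ?_
  rw [Finset.sum_const, Finset.card_univ, Fintype.card_perm, Fintype.card_fin, smul_eq_mul]

theorem exists_conj {n b : ℕ} {c c0 : Fin n → Fin b}
    (h : ∀ j, Fintype.card {i // c i = j} = Fintype.card {i // c0 i = j}) :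
    ∃ g : Perm (Fin n), ∀ i, c0 (g i) = c i := by
  classical
  let e : ∀ j, {i // c i = j} ≃ {i // c0 i = j} := fun j => Fintype.equivOfCardEq (h j)
  let g : Perm (Fin n) := (Equiv.sigmaFiberEquiv c).symm.trans
    ((Equiv.sigmaCongrRight e).trans (Equiv.sigmaFiberEquiv c0))
  refine ⟨g, fun i => ?_⟩
  exact (e (c i) ⟨i, rfl⟩).2

/-- a balanced colouring -/
def Bal {n b : ℕ} (a : ℕ) (c : Fin n → Fin b) : Prop := ∀ j, Fintype.card {i // c i = j} = a

theorem bad_le {n b a : ℕ} :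
    Nat.card {xy : Perm (Fin n) × Perm (Fin n) // ∃ c : Fin n → Fin b, Bal a c ∧ xy.1 ∈ HP c ∧ xy.2 ∈ HP c} ≤
      n ! * (b ! * (a !) ^ b) := by
  classical
  by_cases h : ∃ c0 : Fin n → Fin b, Bal a c0
  · obtain ⟨c0, h0⟩ := h
    have h1 : Nat.card {xy : Perm (Fin n) × Perm (Fin n) //
        ∃ c : Fin n → Fin b, Bal a c ∧ xy.1 ∈ HP c ∧ xy.2 ∈ HP c} ≤
        Nat.card {xy : Perm (Fin n) × Perm (Fin n) //
          ∃ g : Perm (Fin n), g * xy.1 * g⁻¹ ∈ HP c0 ∧ g * xy.2 * g⁻¹ ∈ HP c0} := by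
      have hi : ∀ xy : Perm (Fin n) × Perm (Fin n),
          (∃ c : Fin n → Fin b, Bal a c ∧ xy.1 ∈ HP c ∧ xy.2 ∈ HP c) →
          ∃ g : Perm (Fin n), g * xy.1 * g⁻¹ ∈ HP c0 ∧ g * xy.2 * g⁻¹ ∈ HP c0 := by
        rintro xy ⟨c, hc, hx, hy⟩
        obtain ⟨g, hg⟩ := exists_conj (c := c) (c0 := c0) (fun j => (hc j).trans (h0 j).symm)
        have key : ∀ x : Perm (Fin n), x ∈ HP c → g * x * g⁻¹ ∈ HP c0 := by
          rintro x ⟨σ, hσ⟩
          refine ⟨σ, fun i => ?_⟩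
          show c0 (g (x (g⁻¹ i))) = σ (c0 i)
          rw [hg, hσ, ← hg, ais]
        exact ⟨g, key _ hx, key _ hy⟩
      exact Nat.card_le_card_of_injective (fun u => (⟨u.1, hi u.1 u.2⟩ :
        {xy : Perm (Fin n) × Perm (Fin n) //
          ∃ g : Perm (Fin n), g * xy.1 * g⁻¹ ∈ HP c0 ∧ g * xy.2 * g⁻¹ ∈ HP c0}))
        (fun u v huv => Subtype.ext (Subtype.mk.inj huv))
    refine h1.trans ((conj_pairs (HP c0)).trans ?_)
    rw [Nat.card_perm, Nat.card_eq_fintype_card, Fintype.card_fin]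
    exact Nat.mul_le_mul_left _ (card_HP c0 h0)
  · have : IsEmpty {xy : Perm (Fin n) × Perm (Fin n) //
        ∃ c : Fin n → Fin b, Bal a c ∧ xy.1 ∈ HP c ∧ xy.2 ∈ HP c} :=
      ⟨fun u => by obtain ⟨c, hc, _⟩ := u.2; exact h ⟨c, hc⟩⟩
    simp

/-- an imprimitive transitive group preserves a balanced colouring -/
theorem exists_bal {n : ℕ} {x y : Perm (Fin n)}
    (h1 : MulAction.IsPretransitive (Subgroup.closure {x, y}) (Fin n))
    (h2 : ¬ MulAction.IsPreprimitive (Subgroup.closure {x, y}) (Fin n)) :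
    ∃ (a b : ℕ) (c : Fin n → Fin b), 2 ≤ a ∧ 2 ≤ b ∧ n = b * a ∧ Bal a c ∧ x ∈ HP c ∧ y ∈ HP c := by
  classical
  set G := Subgroup.closure {x, y} with hG
  have h3 : ∃ B : Set (Fin n), MulAction.IsBlock G B ∧ ¬ MulAction.IsTrivialBlock B := by
    by_contra hc
    push Not at hc
    exact h2 { isTrivialBlock_of_isBlock := fun {B} hB => hc B hB }
  obtain ⟨B, hB, hnt⟩ := h3
  rw [MulAction.IsTrivialBlock, not_or, Set.not_subsingleton_iff] at hnt
  obtain ⟨hnt1, hnt2⟩ := hnt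
  obtain ⟨b0, hb0⟩ := hnt1.nonempty
  have htr : ∀ i : Fin n, ∃ g : G, g • b0 = i := fun i => MulAction.exists_smul_eq G b0 i
  choose t ht using htr
  let f : Fin n → Set (Fin n) := fun i => t i • B
  have hf : ∀ i, i ∈ f i := fun i => by
    show i ∈ t i • B
    rw [← ht i]
    rw [ht i]
    exact ⟨b0, hb0, ht i⟩
  have huniq : ∀ (g : G) (i : Fin n), i ∈ g • B → g • B = f i := by
    intro g i hi
    by_contra hne
    exact Set.disjoint_left.mp (hB hne) hi (hf i)
  have hfs : ∀ (z : G) (i : Fin n), f (z • i) = z • f i := by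
    intro z i
    have h4 : z • i ∈ (z * t i) • B := by
      rw [mul_smul]
      exact Set.smul_mem_smul_set (hf i)
    rw [← huniq _ _ h4, mul_smul]
  have hfm : ∀ i j, f i = f j ↔ i ∈ f j := by
    intro i j
    constructor
    · intro e
      rw [← e]
      exact hf i
    · intro e
      exact (huniq _ _ e).symm
  let T := Set.range f
  have : Fintype T := Fintype.ofFinite T
  let b := Fintype.card T
  let e : T ≃ Fin b := Fintype.equivFin T
  let c : Fin n → Fin b := fun i => e ⟨f i, i, rfl⟩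
  have hcc : ∀ i j, c i = c j ↔ f i = f j := by
    intro i j
    constructor
    · intro h
      exact Subtype.mk.inj (e.injective h)
    · intro h
      show e _ = e _
      congr 1
      exact Subtype.ext h
  have hcs : Function.Surjective c := by
    intro j
    obtain ⟨⟨_, i, rfl⟩, hS⟩ := e.surjective j
    exact ⟨i, hS⟩
  have hmem : ∀ z : Perm (Fin n), z ∈ G → z ∈ HP c := by
    intro z hz
    refine mem_HP_of hcs fun i j => ?_
    rw [hcc, hcc]
    have e1 : f (z i) = (⟨z, hz⟩ : G) • f i := hfs ⟨z, hz⟩ i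
    have e2 : f (z j) = (⟨z, hz⟩ : G) • f j := hfs ⟨z, hz⟩ j
    rw [e1, e2]
    exact ⟨fun h => by rw [h], fun h => smul_left_cancel _ h⟩
  have hbal : Bal (Nat.card B) c := by
    intro j
    obtain ⟨i, rfl⟩ := hcs j
    rw [← Nat.card_eq_fintype_card]
    have e3 : Nat.card {i' // c i' = c i} = Nat.card (f i) :=
      Nat.card_congr (Equiv.subtypeEquivRight fun i' => by rw [hcc, hfm])
    rw [e3]
    show Nat.card (t i • B : Set (Fin n)) = Nat.card B
    rw [Nat.card_coe_set_eq, Nat.card_coe_set_eq]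
    exact Set.ncard_smul_set _ _
  have hx : x ∈ G := Subgroup.subset_closure (by simp)
  have hy : y ∈ G := Subgroup.subset_closure (by simp)
  have hn : n = b * Nat.card B := by
    have e4 : Fintype.card (Fin n) = Fintype.card (Σ j, {i // c i = j}) :=
      Fintype.card_congr (Equiv.sigmaFiberEquiv c).symm
    rw [Fintype.card_fin, Fintype.card_sigma, Finset.sum_congr rfl fun j _ => hbal j, Finset.sum_const,
      Finset.card_univ, Fintype.card_fin, smul_eq_mul] at e4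
    exact e4
  have ha : 2 ≤ Nat.card B := by
    rw [Nat.card_coe_set_eq]
    exact (Set.one_lt_ncard_iff_nontrivial).mpr hnt1
  have hb : 2 ≤ b := by
    by_contra hlt
    have hb1 : b = 1 ∨ b = 0 := by omega
    rcases hb1 with hb1 | hb1
    · apply hnt2
      rw [hb1, one_mul] at hn
      apply Set.eq_univ_of_forall
      intro i
      have hcard : Set.ncard B = Set.ncard (Set.univ : Set (Fin n)) := by
        rw [Set.ncard_univ, ← Nat.card_coe_set_eq, ← hn, Nat.card_eq_fintype_card, Fintype.card_fin]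
      have := Set.eq_of_subset_of_ncard_le (Set.subset_univ B) hcard.ge
      rw [this]
      trivial
    · rw [hb1, zero_mul] at hn
      exact (Fin.elim0 (hn ▸ b0))
  exact ⟨Nat.card B, b, c, ha, hb, hn, hbal, hmem x hx, hmem y hy⟩

theorem asc_ge (a b : ℕ) : ∀ k, k ≤ a → k ! * (b + 1) ^ k ≤ (a * b + 1).ascFactorial k := by
  intro k
  induction k with
  | zero => intro _; simp
  | succ k ih =>
    intro hk
    rw [Nat.ascFactorial_succ, Nat.factorial_succ, pow_succ]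
    have h1 := ih (by omega)
    have h2 : (k + 1) * (b + 1) ≤ a * b + 1 + k := by nlinarith
    calc (k + 1) * k ! * ((b + 1) ^ k * (b + 1)) = ((k + 1) * (b + 1)) * (k ! * (b + 1) ^ k) := by ring
      _ ≤ (a * b + 1 + k) * (a * b + 1).ascFactorial k := Nat.mul_le_mul h2 h1

theorem fac_ge (a b : ℕ) : (a !) ^ b * (b !) ^ a ≤ (a * b)! := by
  induction b with
  | zero => simp
  | succ b ih =>
    have h1 : (a * (b + 1))! = (a * b)! * (a * b + 1).ascFactorial a := by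
      rw [Nat.factorial_mul_ascFactorial, mul_add, mul_one]
    rw [h1, Nat.factorial_succ, mul_pow, pow_succ]
    calc (a !) ^ b * a ! * ((b + 1) ^ a * (b !) ^ a) = ((a !) ^ b * (b !) ^ a) * (a ! * (b + 1) ^ a) := by ring
      _ ≤ (a * b)! * (a * b + 1).ascFactorial a := Nat.mul_le_mul ih (asc_ge a b a le_rfl)

theorem two_pow_le_fac (k : ℕ) : 2 ^ k ≤ (k + 1)! := by
  induction k with
  | zero => simp
  | succ k ih =>
    rw [Nat.factorial_succ, pow_succ, mul_comm]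
    exact Nat.mul_le_mul (by omega) ih

theorem fac_main {a b : ℕ} (ha : 2 ≤ a) (hb : 2 ≤ b) :
    b ! * (a !) ^ b * 2 ^ (b * a / 4) ≤ (b * a)! := by
  obtain ⟨a, rfl⟩ : ∃ a', a = a' + 1 := ⟨a - 1, by omega⟩
  obtain ⟨b, rfl⟩ : ∃ b', b = b' + 1 := ⟨b - 1, by omega⟩
  have h1 : (b + 1) * (a + 1) / 4 ≤ b * a := by
    apply Nat.div_le_of_le_mul
    nlinarith
  have h2 : 2 ^ ((b + 1) * (a + 1) / 4) ≤ ((b + 1)!) ^ a := by
    calc 2 ^ ((b + 1) * (a + 1) / 4) ≤ 2 ^ (b * a) := Nat.pow_le_pow_right (by norm_num) h1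
      _ = (2 ^ b) ^ a := pow_mul _ _ _
      _ ≤ ((b + 1)!) ^ a := Nat.pow_le_pow_left (two_pow_le_fac b) a
  calc (b + 1)! * ((a + 1)!) ^ (b + 1) * 2 ^ ((b + 1) * (a + 1) / 4)
      ≤ (b + 1)! * ((a + 1)!) ^ (b + 1) * ((b + 1)!) ^ a := Nat.mul_le_mul_left _ h2
    _ = ((a + 1)!) ^ (b + 1) * ((b + 1)!) ^ (a + 1) := by ring
    _ ≤ ((a + 1) * (b + 1))! := fac_ge _ _
    _ = ((b + 1) * (a + 1))! := by rw [mul_comm]

theorem not_prim_nat (n : ℕ) :
    Nat.card {xy : Perm (Fin n) × Perm (Fin n) //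
      MulAction.IsPretransitive (Subgroup.closure {xy.1, xy.2}) (Fin n) ∧
      ¬ MulAction.IsPreprimitive (Subgroup.closure {xy.1, xy.2}) (Fin n)} * 2 ^ (n / 4) ≤
      n * (n ! * n !) := by
  classical
  have h1 : Nat.card {xy : Perm (Fin n) × Perm (Fin n) //
      MulAction.IsPretransitive (Subgroup.closure {xy.1, xy.2}) (Fin n) ∧
      ¬ MulAction.IsPreprimitive (Subgroup.closure {xy.1, xy.2}) (Fin n)} ≤
      ∑ a ∈ (Finset.range n).filter (fun a => 2 ≤ a ∧ ∃ b, 2 ≤ b ∧ n = b * a),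
        Nat.card {xy : Perm (Fin n) × Perm (Fin n) //
          ∃ c : Fin n → Fin (n / a), Bal a c ∧ xy.1 ∈ HP c ∧ xy.2 ∈ HP c} := by
    refine card_le_sum _ _ (fun a (xy : Perm (Fin n) × Perm (Fin n)) =>
      ∃ c : Fin n → Fin (n / a), Bal a c ∧ xy.1 ∈ HP c ∧ xy.2 ∈ HP c) ?_
    rintro xy ⟨ht, hp⟩
    obtain ⟨a, b, c, ha, hb, hn, hc, hx, hy⟩ := exists_bal ht hp
    have hba : n / a = b := by
      rw [hn]
      exact Nat.mul_div_cancel _ (by omega)
    refine ⟨a, ?_, ?_⟩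
    · rw [Finset.mem_filter, Finset.mem_range]
      refine ⟨?_, ha, b, hb, hn⟩
      rw [hn]
      nlinarith
    · rw [hba]
      exact ⟨c, hc, hx, hy⟩
  have h2 : ∀ a ∈ (Finset.range n).filter (fun a => 2 ≤ a ∧ ∃ b, 2 ≤ b ∧ n = b * a),
      Nat.card {xy : Perm (Fin n) × Perm (Fin n) //
          ∃ c : Fin n → Fin (n / a), Bal a c ∧ xy.1 ∈ HP c ∧ xy.2 ∈ HP c} * 2 ^ (n / 4) ≤ n ! * n ! := by
    intro a ha
    rw [Finset.mem_filter] at ha
    obtain ⟨_, ha2, b, hb, hn⟩ := ha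
    have hba : n / a = b := by
      rw [hn]
      exact Nat.mul_div_cancel _ (by omega)
    rw [hba]
    calc _ ≤ n ! * (b ! * (a !) ^ b) * 2 ^ (n / 4) := Nat.mul_le_mul_right _ bad_le
      _ = n ! * (b ! * (a !) ^ b * 2 ^ (n / 4)) := by ring
      _ ≤ n ! * n ! := by
        refine Nat.mul_le_mul_left _ ?_
        have := fac_main ha2 hb
        rwa [← hn] at this
  calc _ ≤ (∑ a ∈ (Finset.range n).filter (fun a => 2 ≤ a ∧ ∃ b, 2 ≤ b ∧ n = b * a),
        Nat.card {xy : Perm (Fin n) × Perm (Fin n) //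
          ∃ c : Fin n → Fin (n / a), Bal a c ∧ xy.1 ∈ HP c ∧ xy.2 ∈ HP c}) * 2 ^ (n / 4) :=
        Nat.mul_le_mul_right _ h1
    _ = ∑ a ∈ (Finset.range n).filter (fun a => 2 ≤ a ∧ ∃ b, 2 ≤ b ∧ n = b * a),
        Nat.card {xy : Perm (Fin n) × Perm (Fin n) //
          ∃ c : Fin n → Fin (n / a), Bal a c ∧ xy.1 ∈ HP c ∧ xy.2 ∈ HP c} * 2 ^ (n / 4) := Finset.sum_mul _ _ _
    _ ≤ ∑ _a ∈ (Finset.range n).filter (fun a => 2 ≤ a ∧ ∃ b, 2 ≤ b ∧ n = b * a), n ! * n ! :=
        Finset.sum_le_sum h2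
    _ ≤ n * (n ! * n !) := by
        rw [Finset.sum_const, smul_eq_mul]
        refine Nat.mul_le_mul_right _ ?_
        exact (Finset.card_filter_le _ _).trans (by rw [Finset.card_range])

theorem not_prim : ∀ ε : ℝ, 0 < ε → ∃ N : ℕ, ∀ n : ℕ, N ≤ n →
    (Nat.card {xy : Equiv.Perm (Fin n) × Equiv.Perm (Fin n) //
      MulAction.IsPretransitive (Subgroup.closure {xy.1, xy.2}) (Fin n) ∧
      ¬ MulAction.IsPreprimitive (Subgroup.closure {xy.1, xy.2}) (Fin n)} : ℝ) ≤ ε * (n.factorial : ℝ) ^ 2 := by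
  intro ε hε
  obtain ⟨N, hN⟩ := exists_nat_gt (16 / ε)
  refine ⟨4 * (N + 2), fun n hn => ?_⟩
  set m := n / 4 with hm
  have hmN : N + 2 ≤ m := by rw [hm]; omega
  have hnm : n ≤ 4 * (m + 1) := by omega
  have hc2 : m.choose 2 ≤ 2 ^ m := Nat.choose_le_two_pow m 2
  have hc2R : (m : ℝ) * ((m : ℝ) - 1) / 2 ≤ (2 : ℝ) ^ m := by
    rw [← Nat.cast_choose_two ℝ m]
    exact_mod_cast hc2
  have hmR : (N : ℝ) + 2 ≤ m := by exact_mod_cast hmN
  have hN0 : (0 : ℝ) ≤ N := Nat.cast_nonneg N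
  have h1 := not_prim_nat n
  rw [← hm] at h1
  set K := Nat.card {xy : Equiv.Perm (Fin n) × Equiv.Perm (Fin n) //
      MulAction.IsPretransitive (Subgroup.closure {xy.1, xy.2}) (Fin n) ∧
      ¬ MulAction.IsPreprimitive (Subgroup.closure {xy.1, xy.2}) (Fin n)} with hK
  have h1R : (K : ℝ) * 2 ^ m ≤ n * ((n ! : ℝ) * (n ! : ℝ)) := by exact_mod_cast h1
  have hpos : (0 : ℝ) < (2 : ℝ) ^ m := by positivity
  have hnR : (n : ℝ) ≤ 4 * (m + 1) := by exact_mod_cast hnm
  have h16 : (16 : ℝ) ≤ ε * (m - 1) := by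
    have : 16 / ε < m - 1 := by linarith
    rw [div_lt_iff₀ hε] at this
    linarith
  have hkey : (n : ℝ) ≤ ε * 2 ^ m := by
    have h3 : (4 : ℝ) * (m + 1) ≤ 8 * m := by linarith
    have h4 : (8 : ℝ) * m ≤ ε * (m * (m - 1) / 2) := by nlinarith
    have h5 : ε * ((m : ℝ) * (m - 1) / 2) ≤ ε * 2 ^ m := mul_le_mul_of_nonneg_left hc2R hε.le
    linarith
  have h6 : (K : ℝ) * 2 ^ m ≤ (ε * (n ! : ℝ) ^ 2) * 2 ^ m := by
    calc (K : ℝ) * 2 ^ m ≤ n * ((n ! : ℝ) * (n ! : ℝ)) := h1R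
      _ ≤ (ε * 2 ^ m) * ((n ! : ℝ) * (n ! : ℝ)) := mul_le_mul_of_nonneg_right hkey (by positivity)
      _ = (ε * (n ! : ℝ) ^ 2) * 2 ^ m := by ring
  exact le_of_mul_le_mul_right h6 hpos

end Cfsg.Agent.H451.Rg
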